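import Mathlib

set_option autoImplicit false
open scoped BigOperators
open Module

namespace Groth.Agent.Lib.Helper5.LenDet

universe u v

section PID
variable {R : Type u} [CommRing R] [IsDomain R] [IsPrincipalIdealRing R]
  {M : Type v} [AddCommGroup M] [Module R M] {ι : Type} [Fintype ι] [DecidableEq ι]

omit [IsPrincipalIdealRing R] [DecidableEq ι] in
theorem ord_prod (a : ι → R) (ha : ∀ i, a i ≠ 0) :
    Ring.ord R (∏ i, a i) = ∑ i, Ring.ord R (a i) := by
  classical
  have : ∀ s : Finset ι, Ring.ord R (∏ i ∈ s, a i) = ∑ i ∈ s, Ring.ord R (a i) := by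
    intro s
    induction s using Finset.induction_on with
    | empty => simp
    | insert j s hj ih =>
      rw [Finset.prod_insert hj, Finset.sum_insert hj, Ring.ord_mul, ih]
      exact mem_nonZeroDivisors_of_ne_zero (Finset.prod_ne_zero_iff.mpr fun i _ => ha i)
  exact this Finset.univ

/-- length of the cokernel of an injective endomorphism of a finite free module over a PID. -/
theorem length_quotient_range_of_det_ne_zero (b : Basis ι R M) (f : M →ₗ[R] M)
    (hdet : LinearMap.det f ≠ 0) :
    Module.length R (M ⧸ LinearMap.range f) = Ring.ord R (LinearMap.det f) := by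
  haveI : Module.Free R M := Module.Free.of_basis b
  haveI : Module.Finite R M := Module.Finite.of_basis b
  have hinj : Function.Injective f := by
    rw [← LinearMap.ker_eq_bot]
    by_contra hker
    exact hdet (LinearMap.det_eq_zero_iff_ker_ne_bot.mpr hker)
  set N := LinearMap.range f with hN
  let e : M ≃ₗ[R] N := LinearEquiv.ofInjective f hinj
  have hfe : f = N.subtype ∘ₗ (e : M →ₗ[R] N) := by
    ext x; rfl
  have h : Module.finrank R N = Module.finrank R M := e.symm.finrank_eq
  let a := Submodule.smithNormalFormCoeffs b h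
  let b' := Submodule.smithNormalFormTopBasis b h
  let ab := Submodule.smithNormalFormBotBasis b h
  have ab_eq := Submodule.smithNormalFormBotBasis_def b h
  have ha : ∀ i, a i ≠ 0 := Submodule.smithNormalFormCoeffs_ne_zero b h
  let e' : M ≃ₗ[R] N := b'.equiv ab (Equiv.refl _)
  let f' : M →ₗ[R] M := N.subtype ∘ₗ (e' : M →ₗ[R] N)
  have hassoc : Associated (LinearMap.det f) (LinearMap.det f') := by
    rw [hfe]
    exact LinearMap.associated_det_comp_equiv _ _ _
  have hf' : ∀ i, f' (b' i) = a i • b' i := by
    intro i
    change ((b'.equiv ab (Equiv.refl _) (b' i) : N) : M) = _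
    rw [b'.equiv_apply, Equiv.refl_apply]
    exact ab_eq i
  have hdet' : LinearMap.det f' = ∏ i, a i := by
    rw [← LinearMap.det_toMatrix b', ← Matrix.det_diagonal]
    congr 1
    ext i j
    rw [LinearMap.toMatrix_apply, hf', map_smul, Basis.repr_self, Finsupp.smul_single,
      smul_eq_mul, mul_one]
    by_cases hij : i = j
    · rw [hij, Matrix.diagonal_apply_eq, Finsupp.single_eq_same]
    · rw [Matrix.diagonal_apply_ne _ hij, Finsupp.single_eq_of_ne hij]
  rw [Ring.ord_eq_of_associated hassoc, hdet', ord_prod a ha,
    (Submodule.quotientEquivPiSpan N b h).length_eq, Module.length_pi_of_fintype]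
  rfl

end PID

section DVR
variable {B : Type u} [CommRing B] [IsDomain B] [IsDiscreteValuationRing B]

theorem length_self_eq_top : Module.length B B = ⊤ := by
  by_contra h
  rw [← ne_eq, Module.length_ne_top_iff, isFiniteLength_iff_isNoetherian_isArtinian] at h
  haveI : IsArtinianRing B := h.2
  exact IsDiscreteValuationRing.not_isField B (IsArtinianRing.isField_of_isDomain B)

theorem ord_eq_addVal (x : B) : Ring.ord B x = IsDiscreteValuationRing.addVal B x := by
  rcases eq_or_ne x 0 with rfl | hx
  · rw [Ring.ord_zero, length_self_eq_top, IsDiscreteValuationRing.addVal_zero]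
  · obtain ⟨ϖ, hϖ⟩ := IsDiscreteValuationRing.exists_irreducible B
    obtain ⟨n, u, rfl⟩ := IsDiscreteValuationRing.eq_unit_mul_pow_irreducible hx hϖ
    rw [IsDiscreteValuationRing.addVal_def' u hϖ n, Ring.ord_mul_of_isUnit_left u.isUnit,
      Ring.ord_pow (mem_nonZeroDivisors_of_ne_zero hϖ.ne_zero), Ring.ord_of_irreducible hϖ]
    simp

/-- the cokernel of a singular matrix has infinite length -/
theorem length_quotient_range_of_det_eq_zero {r : ℕ} (A : Matrix (Fin r) (Fin r) B)
    (hdet : A.det = 0) :
    Module.length B ((Fin r → B) ⧸ LinearMap.range (Matrix.toLin' A)) = ⊤ := by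
  obtain ⟨v, hv0, hv⟩ := Matrix.exists_vecMul_eq_zero_iff.mpr hdet
  -- the functional `w ↦ v ⬝ᵥ w` vanishes on the range
  let lam : (Fin r → B) →ₗ[B] B :=
    { toFun := fun w => v ⬝ᵥ w
      map_add' := fun w w' => dotProduct_add v w w'
      map_smul' := fun c w => by simp [dotProduct_smul] }
  have hlam : LinearMap.range (Matrix.toLin' A) ≤ LinearMap.ker lam := by
    rintro _ ⟨u, rfl⟩
    rw [LinearMap.mem_ker]
    change v ⬝ᵥ (Matrix.toLin' A u) = 0
    rw [Matrix.toLin'_apply, Matrix.dotProduct_mulVec, hv, zero_dotProduct]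
  let q : ((Fin r → B) ⧸ LinearMap.range (Matrix.toLin' A)) →ₗ[B] B :=
    Submodule.liftQ _ lam hlam
  obtain ⟨i, hi⟩ : ∃ i, v i ≠ 0 := by
    by_contra hcon
    push Not at hcon
    exact hv0 (funext hcon)
  -- `B → range q`, `c ↦ c * v i` is injective
  have h1 : Module.length B B ≤ Module.length B (LinearMap.range q) := by
    let j : B →ₗ[B] LinearMap.range q :=
      { toFun := fun c => ⟨c * v i, ⟨Submodule.Quotient.mk (c • Pi.single i 1), by
          change v ⬝ᵥ (c • Pi.single i 1) = c * v i
          rw [dotProduct_smul, dotProduct_single_one]; rfl⟩⟩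
        map_add' := fun c c' => Subtype.ext (add_mul c c' (v i))
        map_smul' := fun c c' => Subtype.ext (by simp [mul_assoc]) }
    apply Module.length_le_of_injective j
    intro c c' hcc
    have := congrArg Subtype.val hcc
    exact mul_right_cancel₀ hi this
  have h2 : Module.length B (LinearMap.range q) ≤
      Module.length B ((Fin r → B) ⧸ LinearMap.range (Matrix.toLin' A)) :=
    Module.length_le_of_surjective q.rangeRestrict q.surjective_rangeRestrict
  rw [length_self_eq_top] at h1
  exact top_le_iff.mp (h1.trans h2)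

theorem length_quotient_range_toLin' {r : ℕ} (A : Matrix (Fin r) (Fin r) B) :
    Module.length B ((Fin r → B) ⧸ LinearMap.range (Matrix.toLin' A)) =
      IsDiscreteValuationRing.addVal B A.det := by
  by_cases hdet : A.det = 0
  · rw [length_quotient_range_of_det_eq_zero A hdet, hdet, IsDiscreteValuationRing.addVal_zero]
  · rw [← ord_eq_addVal, ← LinearMap.det_toLin' A]
    exact length_quotient_range_of_det_ne_zero (Pi.basisFun B (Fin r)) _
      (by rw [LinearMap.det_toLin']; exact hdet)

end DVR

section Semilinear
variable {B : Type u} [CommRing B] [IsDomain B] [IsDiscreteValuationRing B]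

theorem addVal_prod {n : ℕ} (d : Fin n → B) :
    IsDiscreteValuationRing.addVal B (∏ i, d i) = ∑ i, IsDiscreteValuationRing.addVal B (d i) := by
  classical
  have : ∀ s : Finset (Fin n), IsDiscreteValuationRing.addVal B (∏ i ∈ s, d i) =
      ∑ i ∈ s, IsDiscreteValuationRing.addVal B (d i) := by
    intro s
    induction s using Finset.induction_on with
    | empty => simp
    | insert j s hj ih =>
      rw [Finset.prod_insert hj, Finset.sum_insert hj, AddValuation.map_mul, ih]
  exact this Finset.univ

/-- one semilinear block -/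
theorem length_block (ω : B ≃+* B) {r : ℕ} {M N : Type v} [AddCommGroup M] [Module B M]
    [AddCommGroup N] [Module B N] (bM : Module.Basis (Fin r) B M) (bN : Module.Basis (Fin r) B N)
    (χ : M →+ N) (hχ : ∀ (b : B) (x : M), χ (b • x) = ω b • χ x) :
    Module.length B (N ⧸ Submodule.span B (Set.range χ)) =
      IsDiscreteValuationRing.addVal B (Matrix.det
        (Matrix.of fun (a c : Fin r) => bN.repr (χ (bM c)) a)) := by
  set A : Matrix (Fin r) (Fin r) B := Matrix.of fun (a c : Fin r) => bN.repr (χ (bM c)) a with hA
  have h1 : Submodule.span B (Set.range χ) = Submodule.span B (Set.range fun c => χ (bM c)) := by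
    apply le_antisymm
    · rw [Submodule.span_le]
      rintro _ ⟨x, rfl⟩
      have hx : x = ∑ c, bM.repr x c • bM c := (bM.sum_repr x).symm
      rw [hx, map_sum]
      refine Submodule.sum_mem _ fun c _ => ?_
      rw [hχ]
      exact Submodule.smul_mem _ _ (Submodule.subset_span ⟨c, rfl⟩)
    · apply Submodule.span_mono
      rintro _ ⟨c, rfl⟩
      exact ⟨bM c, rfl⟩
  have h2 : (Submodule.span B (Set.range fun c => χ (bM c))).map
      (bN.equivFun : N →ₗ[B] (Fin r → B)) = LinearMap.range (Matrix.toLin' A) := by
    rw [Submodule.map_span, Matrix.range_toLin', ← Set.range_comp]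
    congr 1
  rw [h1, (Submodule.Quotient.equiv _ _ bN.equivFun h2).length_eq, length_quotient_range_toLin']

theorem main (ω : B ≃+* B) {n : ℕ} (r : Fin n → ℕ)
    (M N : Fin n → Type v) [∀ i, AddCommGroup (M i)] [∀ i, Module B (M i)]
    [∀ i, AddCommGroup (N i)] [∀ i, Module B (N i)]
    (bM : ∀ i, Module.Basis (Fin (r i)) B (M i)) (bN : ∀ i, Module.Basis (Fin (r i)) B (N i))
    (χ : ∀ i, M i →+ N i) (hχ : ∀ i (b : B) (x : M i), χ i (b • x) = ω b • χ i x) :
    Module.length B ((∀ i, N i) ⧸ Submodule.span B (Set.range (fun (x : ∀ i, M i) (i : Fin n) => χ i (x i)))) =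
      IsDiscreteValuationRing.addVal B (∏ i, Matrix.det
        (Matrix.of fun (a c : Fin (r i)) => (bN i).repr (χ i (bM i c)) a)) := by
  classical
  have hspan : Submodule.span B (Set.range (fun (x : ∀ i, M i) (i : Fin n) => χ i (x i))) =
      Submodule.pi Set.univ fun i => Submodule.span B (Set.range (χ i)) := by
    apply le_antisymm
    · rw [Submodule.span_le]
      rintro _ ⟨x, rfl⟩ i _
      exact Submodule.subset_span ⟨x i, rfl⟩
    · intro y hy
      rw [← Finset.univ_sum_single y]
      refine Submodule.sum_mem _ fun i _ => ?_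
      have hyi : y i ∈ Submodule.span B (Set.range (χ i)) := hy i (Set.mem_univ i)
      have hle : (Submodule.span B (Set.range (χ i))).map (LinearMap.single B N i) ≤
          Submodule.span B (Set.range (fun (x : ∀ i, M i) (i : Fin n) => χ i (x i))) := by
        rw [Submodule.map_span, Submodule.span_le]
        rintro _ ⟨_, ⟨x, rfl⟩, rfl⟩
        apply Submodule.subset_span
        refine ⟨Pi.single i x, ?_⟩
        funext j
        by_cases hj : j = i
        · subst hj; simp
        · simp [Pi.single_eq_of_ne hj]
      exact hle ⟨y i, hyi, rfl⟩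
  rw [hspan, (Submodule.quotientPi _).length_eq, Module.length_pi_of_fintype, addVal_prod]
  exact Finset.sum_congr rfl fun i _ => length_block ω (bM i) (bN i) (χ i) (hχ i)

end Semilinear

end Groth.Agent.Lib.Helper5.LenDet
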